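import Groth.Agent.Lib.CurveHomEuler
import Groth.Agent.S18840
import Groth.Agent.AmpleVan.Pull

/-!
Duals of bundles on integral proper curves whose local rings are principal ideal rings.
-/

noncomputable section

set_option linter.style.haveILetI false
set_option linter.unusedSectionVars false
set_option backward.isDefEq.respectTransparency false
set_option backward.isDefEq.respectTransparency.types false

universe u

open CategoryTheory CategoryTheory.Limits AlgebraicGeometry TopologicalSpace Opposite

namespace Groth.Agent.CurveTraceDeg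

open RefHull Groth.Agent.CurveBundle Groth.Agent.CurveSlope

variable {X : Scheme.{u}} (k : Type u) [Field k] [X.Over (Spec (CommRingCat.of k))]
  [IsProper (X ↘ Spec (CommRingCat.of k))] [IsIntegral X]

include k in
/-- Coherent subsheaves of bundles are bundles over principal local rings. -/
theorem isFinLocFree_of_mono (hpid : ∀ x : X, IsPrincipalIdealRing (X.presheaf.stalk x)) {K E : X.Modules}
    (hK : Coh.IsCoh K) (i : K ⟶ E) [Mono i] (hE : FlatMod.IsFinLocFree E) : FlatMod.IsFinLocFree K := by
  haveI := isLocallyNoetherian' k (X := X)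
  refine QCoh.isFinLocFree_iff.2 ⟨QCoh.isCoh_iff_isFP.1 hK, fun x => ?_⟩
  haveI := hpid x
  exact free_stalk_of_mono i hE x

include k in
/-- A monomorphism of sheaves of equal rank does not decrease the Euler characteristic. -/
theorem euler_le_of_mono (hdim : topologicalKrullDim X ≤ 1) {A B : X.Modules} (hA : Coh.IsCoh A)
    (hB : Coh.IsCoh B) (φ : A ⟶ B) [Mono φ] (hr : rk A = rk B) :
    Curv2.euler k X A ≤ Curv2.euler k X B := by
  haveI := isLocallyNoetherian' k (X := X)
  have hQ : Coh.IsCoh (cokernel φ) := QCoh.isCoh_cokernel hA.1 hB φ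
  have hS := shortExact_cokernel_of_mono φ
  have h0 : rk (cokernel φ) = 0 := by
    have := rk_add_coh k _ _ _ hS hB
    omega
  have hd := CurveDeg.topologicalKrullDim_le_zero_of_ne_univ hdim
    (QCoh.isClosed_support_of_isFT hQ.1 hQ.2) (support_ne_univ_of_rk hQ h0)
  obtain ⟨h1, -⟩ := Euler.euler_nonneg_of_good k hQ (Euler.good_of_dim_le_zero k hQ hd)
  have := euler_add' k _ _ _ hS hA hB hQ
  omega

/-- Line bundles of arbitrarily large Euler characteristic on a curve with an ample module. -/
theorem exists_big_line (hdim : topologicalKrullDim X = 1) {L : X.Modules} (hL : CohB1.IsAmple L) (N : ℤ) :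
    ∃ M : X.Modules, FlatMod.IsFinLocFreeOfRank 1 M ∧ N ≤ Curv2.euler k X M := by
  have hd := S18840.deg_pos_of_ample k hdim hL
  let n : ℕ := (N - Curv2.euler k X (Coh.structureModule X)).toNat
  obtain ⟨hM, hMd⟩ := S18840.deg_tensorPow k hdim hL.1 n
  refine ⟨_, InvEnd.isFinLocFreeOfRank_one hM, ?_⟩
  have hn : (n : ℤ) ≤ (n : ℤ) * Curv2.deg k X L 1 := le_mul_of_one_le_right (Int.natCast_nonneg n) hd
  rw [← hMd] at hn
  unfold Curv2.deg at hn
  push_cast at hn
  omega

/-- Euler characteristics of a bundle and of its dual. -/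
theorem euler_add_dual (hdim : topologicalKrullDim X = 1)
    (hpid : ∀ x : X, IsPrincipalIdealRing (X.presheaf.stalk x))
    (hbig : ∀ N : ℤ, ∃ M : X.Modules, FlatMod.IsFinLocFreeOfRank 1 M ∧ N ≤ Curv2.euler k X M) :
    ∀ (r : ℕ) (B : X.Modules), FlatMod.IsFinLocFree B → rk B = r →
      Curv2.euler k X B + Curv2.euler k X (dual B) = 2 * r * Curv2.euler k X (Coh.structureModule X) := by
  haveI := CurveCohLib.isNoetherian_of_proper (k := k) (X := X)
  intro r
  induction r with
  | zero =>
    intro B hB hr
    have hz := isZero_of_rk_zero hB hr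
    have hz' : IsZero (dual B) := KFlatLib.isZero_of_stalk _ fun x => by
      haveI : Subsingleton (B.presheaf.stalk x) :=
        ModuleCat.subsingleton_of_isZero (Functor.map_isZero (DerSch.stalkFunctor X x) hz)
      haveI : Subsingleton ((dual B).presheaf.stalk x) :=
        (RefX.evalStalk_bijective (G := Coh.structureModule X) (CurveHom.isFP_of_free hB) x).1.subsingleton
      haveI : Subsingleton ((DerSch.stalkFunctor X x).obj (dual B)) :=
        (inferInstance : Subsingleton ((dual B).presheaf.stalk x))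
      exact ModuleCat.isZero_of_subsingleton ((DerSch.stalkFunctor X x).obj (dual B))
    rw [euler_eq_zero_of_isZero k hz, euler_eq_zero_of_isZero k hz']
    push_cast
    ring
  | succ r ih =>
    intro B hB hr
    have hBc := CurveDeg.isCoh_of_isFinLocFree hB
    obtain ⟨L, hL, hLN⟩ := hbig
      (max 0 ((r + 1 : ℤ) * Curv2.euler k X (Coh.structureModule X) - Curv2.euler k X (dual B)) + 1)
    have hLf : FlatMod.IsFinLocFree L := fun y => let ⟨W, hy, he⟩ := hL y; ⟨W, 1, hy, he⟩
    have hLc := CurveDeg.isCoh_of_isFinLocFree hLf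
    obtain ⟨φ, hφ⟩ : ∃ φ : B ⟶ L, φ ≠ 0 := by
      have hc : Coh.IsCoh (homSh B L) := RefX.isCoh_homSh hBc hLc
      have h1 := CurveHom.euler_homSh_eq k hdim (isFinLocFreeOfRank_rk hB) hL
      rw [hr] at h1
      push_cast at h1
      have h2 := euler_le_h0 k hdim.le hc
      have h3 := le_max_left (0 : ℤ)
        ((r + 1 : ℤ) * Curv2.euler k X (Coh.structureModule X) - Curv2.euler k X (dual B))
      have h4 := le_max_right (0 : ℤ)
        ((r + 1 : ℤ) * Curv2.euler k X (Coh.structureModule X) - Curv2.euler k X (dual B))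
      have h5 : Curv2.euler k X L ≤ (r + 1 : ℤ) * Curv2.euler k X L :=
        le_mul_of_one_le_left (by omega) (by omega)
      haveI := Module.nontrivial_of_finrank_pos (R := k) (M := Coh.HH X (homSh B L) 0) (by omega)
      obtain ⟨t, ht⟩ := exists_ne (0 : Coh.HH X (homSh B L) 0)
      let g : Γ(homSh B L, ⊤) := Sheaf.H.equiv₀ (Coh.toAb (homSh B L)) isTerminalTop t
      refine ⟨CurveHom.toHom g, fun h0 => ht ?_⟩
      have hg : g = 0 := RefX.sect_ext fun y => LinearMap.ext fun v => by
        rw [← CurveHom.stalkMapₗ_toHom g y.1 v, h0, CurveHom.stalkMapₗ_eq, Functor.map_zero]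
        rfl
      exact (Sheaf.H.equiv₀ (Coh.toAb (homSh B L)) isTerminalTop).injective (hg.trans (map_zero _).symm)
    obtain ⟨I, π, j, hj, hfac, hKc, hIc, hπ, w, hS⟩ := exists_factor hBc hLc φ
    haveI := hj
    haveI := hπ
    have hK := isFinLocFree_of_mono k hpid hKc (kernel.ι φ) hB
    have hI := isFinLocFree_of_mono k hpid hIc j hLf
    have hI0 : rk I ≠ 0 := fun h0 => hφ (by
      rw [← hfac, (isZero_of_rk_zero hI h0).eq_of_tgt π 0, Limits.zero_comp])
    have hrL := rk_add_coh k _ _ _ (shortExact_cokernel_of_mono j) hLc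
    rw [rk_eq hL] at hrL
    have hrB := rk_add_coh k _ _ _ hS hBc
    have hI1 : FlatMod.IsFinLocFreeOfRank 1 I := (show rk I = 1 by omega) ▸ isFinLocFreeOfRank_rk hI
    obtain ⟨w', hT⟩ := CurveHom.shortExact_homMapLeft hS hK hB hI (Coh.structureModule X)
    have e1 : Curv2.euler k X (dual B) = Curv2.euler k X (dual I) + Curv2.euler k X (dual (kernel φ)) :=
      euler_add' k _ _ _ hT (RefX.isCoh_dual hIc) (RefX.isCoh_dual hBc) (RefX.isCoh_dual hKc)
    have e2 : Curv2.euler k X B = Curv2.euler k X (kernel φ) + Curv2.euler k X I :=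
      euler_add' k _ _ _ hS hKc hBc hIc
    have e3 := ih (kernel φ) hK (by omega)
    rw [e1, e2, CurveHom.euler_dual_line k hdim hI1]
    push_cast
    linarith

include k in
theorem rk_dual {B : X.Modules} (hB : FlatMod.IsFinLocFree B) : rk (dual B) = rk B := by
  haveI := isLocallyNoetherian' k (X := X)
  letI := (isField_stalk_generic (X := X)).toField
  haveI := finite_stalk_of_coh (CurveDeg.isCoh_of_isFinLocFree hB) (genericPoint X)
  unfold rk
  rw [(RefX.dualStalk (CurveHom.isFP_of_free hB) (genericPoint X)).finrank_eq]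
  exact Subspace.dual_finrank_eq

end Groth.Agent.CurveTraceDeg
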