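import Mathlib.RingTheory.Localization.NormTrace
import Mathlib.RingTheory.Trace.Basic
import Mathlib.RingTheory.Algebraic.Integral

/-!
The trace pairing of a finite free extension of domains with separable fraction fields is injective.
-/

namespace Groth.Agent.CurveTraceDeg

theorem eq_zero_of_trace_mul {R S K L : Type*} [CommRing R] [CommRing S] [Field K] [Field L]
    [IsDomain R] [IsDomain S] [Algebra R S] [Module.Free R S] [Module.Finite R S] [FaithfulSMul R S]
    [Algebra R K] [IsFractionRing R K] [Algebra S L] [IsFractionRing S L] [Algebra K L] [Algebra R L]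
    [IsScalarTower R K L] [IsScalarTower R S L] [FiniteDimensional K L] [Algebra.IsSeparable K L]
    (a : S) (h : ∀ b, Algebra.trace R S (a * b) = 0) : a = 0 := by
  haveI : Algebra.IsIntegral R S := Algebra.IsIntegral.of_finite R S
  haveI : Algebra.IsAlgebraic R S := Algebra.IsIntegral.isAlgebraic
  haveI hloc : IsLocalization (Algebra.algebraMapSubmonoid S (nonZeroDivisors R)) L := inferInstance
  refine IsFractionRing.injective S L ?_
  rw [map_zero]
  refine (traceForm_nondegenerate K L).1 (algebraMap S L a) fun y => ?_
  obtain ⟨s, ⟨_, r, hr, rfl⟩, rfl⟩ :=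
    IsLocalization.exists_mk'_eq (Algebra.algebraMapSubmonoid S (nonZeroDivisors R)) y
  rw [Algebra.traceForm_apply]
  have hr0 : algebraMap R K r ≠ 0 := IsLocalization.to_map_ne_zero_of_mem_nonZeroDivisors K le_rfl hr
  refine (smul_eq_zero.1 ?_).resolve_left hr0
  rw [← map_smul, Algebra.smul_def, ← IsScalarTower.algebraMap_apply R K L,
    IsScalarTower.algebraMap_apply R S L, mul_left_comm]
  rw [show algebraMap S L (algebraMap R S r) * IsLocalization.mk' L s
      (⟨algebraMap R S r, r, hr, rfl⟩ : Algebra.algebraMapSubmonoid S (nonZeroDivisors R)) = algebraMap S L s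
    from IsLocalization.mk'_spec' L s
      (⟨algebraMap R S r, r, hr, rfl⟩ : Algebra.algebraMapSubmonoid S (nonZeroDivisors R)), ← map_mul, Algebra.trace_localization R (nonZeroDivisors R), h,
    map_zero]

end Groth.Agent.CurveTraceDeg
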