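import Groth.Agent.CurveTraceDeg.Trace
import Groth.Agent.CurveTraceDeg.Dual
import Groth.Agent.CurveBC.Etale
import Groth.Agent.CurveFinMap.Rank
import Groth.Agent.CurveGenusMono.Basic
import Groth.Agent.CurveEmbed.Points
import Groth.Agent.DimFormula.DedekindFlat

/-!
The direct image of the structure sheaf under a separable map of normal curves has non-positive degree.
-/

noncomputable section

set_option linter.style.haveILetI false
set_option linter.unusedSectionVars false
set_option backward.isDefEq.respectTransparency false
set_option backward.isDefEq.respectTransparency.types false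

universe u

open CategoryTheory CategoryTheory.Limits AlgebraicGeometry TopologicalSpace Opposite

namespace Groth.Agent.CurveTraceDeg

variable (k : Type u) [Field k] {X Y : Scheme.{u}} [X.Over (Spec (CommRingCat.of k))]
  [Y.Over (Spec (CommRingCat.of k))] [IsIntegral X] [IsIntegral Y]
  [IsProper (X ↘ Spec (CommRingCat.of k))] [IsProper (Y ↘ Spec (CommRingCat.of k))]

include k in
theorem regular_dim_le_one (hdY : topologicalKrullDim Y = 1) (hn : Pi1.IsNormalScheme Y) (y : Y) :
    IsRegularLocalRing (Y.presheaf.stalk y) ∧ ringKrullDim (Y.presheaf.stalk y) ≤ 1 := by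
  haveI := CurveCohLib.isNoetherian_of_proper (k := k) (X := Y)
  by_cases hy : IsClosed ({y} : Set Y)
  · haveI := CurveEmbed.isDVR_of_normal k hdY hy (hn y).2
    exact ⟨inferInstance, (IsPrincipalIdealRing.ringKrullDim_eq_one _
      (IsDiscreteValuationRing.not_isField _)).le⟩
  · rw [CurveCohLib.eq_genericPoint_of_not_isClosed hdY hy]
    show IsRegularLocalRing Y.functionField ∧ ringKrullDim Y.functionField ≤ 1
    exact ⟨inferInstance, by rw [ringKrullDim_eq_zero_of_field]; exact zero_le_one⟩

/-- `χ(O_X) ≤ n χ(O_Y)`. -/
theorem euler_le (hdY : topologicalKrullDim Y = 1) (hn : Pi1.IsNormalScheme Y)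
    {L : Y.Modules} (hL : CohB1.IsAmple L) (f : X ⟶ Y) [IsFinite f]
    (hf : f ≫ (Y ↘ Spec (CommRingCat.of k)) = X ↘ Spec (CommRingCat.of k))
    (e : f (genericPoint X) = genericPoint Y)
    (hsep : letI := ((Y.presheaf.stalkSpecializes (specializes_of_eq e) ≫ f.stalkMap (genericPoint X)).hom).toAlgebra
      Algebra.IsSeparable Y.functionField X.functionField) :
    Curv2.euler k X (Coh.structureModule X) ≤
      (f.residueDegree (genericPoint X) : ℤ) * Curv2.euler k Y (Coh.structureModule Y) := by
  haveI := CurveCohLib.isNoetherian_of_proper (k := k) (X := Y)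
  haveI := CurveCohLib.isNoetherian_of_proper (k := k) (X := X)
  have hreg := regular_dim_le_one k hdY hn
  have hpid : ∀ y : Y, IsPrincipalIdealRing (Y.presheaf.stalk y) := fun y => by
    haveI := (hn y).1
    haveI := (hreg y).1
    exact DimFormula.isPrincipalIdealRing_of_regular_dim_le_one (hreg y).2
  haveI : Flat f := DimFormula.flat_of_regular_dim_le_one hreg f fun η hη => by
    rw [← hη (genericPoint X) ((genericPoint_spec X).specializes (Set.mem_univ η))]
    exact e
  haveI : LocallyOfFinitePresentation f := inferInstance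
  have hA' := CurveBC.isFinLocFreeOfRank_push f
  have hrk := CurveFinMap.rk_push_structure f e
  have hA : FlatMod.IsFinLocFree (push f) := fun y => let ⟨W, hy, he⟩ := hA' y; ⟨W, _, hy, he⟩
  have hAc := CurveDeg.isCoh_of_isFinLocFree hA
  have hχ : Curv2.euler k X (Coh.structureModule X) = Curv2.euler k Y (push f) :=
    finsum_congr fun i => by
      obtain ⟨ε⟩ := PnCoh.exists_linearEquiv_push k f hf QCoh.isQCoh_structureModule i
      rw [ε.finrank_eq]
  haveI := mono_toDual hA e hsep (CurveGenusMono.finiteDimensional_functionField f e)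
  have h1 := euler_le_of_mono k hdY.le hAc (RefX.isCoh_dual hAc) (toDual hA) (rk_dual k hA).symm
  have h2 := euler_add_dual k hdY hpid (exists_big_line k hdY hL) _ (push f) hA rfl
  rw [hrk] at h2
  rw [hχ]
  linarith

end Groth.Agent.CurveTraceDeg
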