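import Groth.Agent.CurveTraceDeg.Alg
import Groth.Agent.H23.FinTrace
import Groth.Agent.H23.CoverPush
import Groth.Agent.Lib.CurveHomEuler
import Groth.Prelude.Def_RelSpec

/-!
The trace pairing `f_* O_X ⟶ (f_* O_X)^∨` of a finite locally free map.
-/

noncomputable section

set_option linter.style.haveILetI false
set_option linter.unusedSectionVars false
set_option backward.isDefEq.respectTransparency false
set_option backward.isDefEq.respectTransparency.types false

universe u

open CategoryTheory CategoryTheory.Limits AlgebraicGeometry TopologicalSpace Opposite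

namespace Groth.Agent.CurveTraceDeg

open RefHull

variable {X Y : Scheme.{u}} (f : X ⟶ Y)

/-- The direct image of the structure sheaf. -/
abbrev push : Y.Modules := (Scheme.Modules.pushforward f).obj (Coh.structureModule X)

/-- A section of the direct image as a function upstairs. -/
abbrev toFn {V : Y.Opens} (a : Γ(push f, V)) : Γ(X, f ⁻¹ᵁ V) := a

/-- A function upstairs as a section of the direct image. -/
abbrev ofFn {V : Y.Opens} (a : Γ(X, f ⁻¹ᵁ V)) : Γ(push f, V) := a

theorem smul_eq {V : Y.Opens} (r : Γ(Y, V)) (a : Γ(push f, V)) :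
    r • a = ofFn f (f.app V r * toFn f a) := rfl

theorem res_eq {V W : Y.Opens} (h : W ≤ V) (a : Γ(push f, V)) :
    (push f).presheaf.map (homOfLE h).op a =
      ofFn f (X.presheaf.map (homOfLE (f.preimage_mono h)).op (toFn f a)) := rfl

variable [IsFinite f]

/-- The two spellings of the direct image algebra. -/
def dirIso : push f ≅ (RelSpec.QCAlg.directImage f).toModule where
  hom := ⟨letI := (RelSpec.QCAlg.directImage f).moduleSect
    PresheafOfModules.homMk
      { app := fun W => AddCommGrpCat.ofHom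
          (AddMonoidHom.mk' (fun a => toFn f a) fun _ _ => rfl)
        naturality := fun W W' i => by ext a; rfl }
      fun W r a => rfl⟩
  inv := ⟨letI := (RelSpec.QCAlg.directImage f).moduleSect
    PresheafOfModules.homMk
      { app := fun W => AddCommGrpCat.ofHom
          (AddMonoidHom.mk' (fun a => ofFn f a) fun _ _ => rfl)
        naturality := fun W W' i => by ext a; rfl }
      fun W r a => rfl⟩
  hom_inv_id := Scheme.Modules.hom_ext _ _ fun U => by ext a; rfl
  inv_hom_id := Scheme.Modules.hom_ext _ _ fun U => by ext a; rfl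

variable {f}

theorem isFinLocFree_dir (hA : FlatMod.IsFinLocFree (push f)) :
    FlatMod.IsFinLocFree (RelSpec.QCAlg.directImage f).toModule := fun y => by
  obtain ⟨U, n, hy, ⟨e⟩⟩ := hA y
  exact ⟨U, n, hy, ⟨(Scheme.Modules.restrictFunctor U.ι).mapIso (dirIso f).symm ≪≫ e⟩⟩

/-- The trace. -/
def trace (hA : FlatMod.IsFinLocFree (push f)) : push f ⟶ Coh.structureModule Y :=
  (dirIso f).hom ≫ H23.FinTrace.trHom (isFinLocFree_dir hA)

theorem trace_app_of_free (hA : FlatMod.IsFinLocFree (push f)) {V : Y.Opens} (hV : IsAffineOpen V)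
    (hfree : letI := H23.CoverPush.alg f V; Module.Free Γ(Y, V) Γ(X, f ⁻¹ᵁ V))
    (hfin : letI := H23.CoverPush.alg f V; Module.Finite Γ(Y, V) Γ(X, f ⁻¹ᵁ V))
    (a : Γ(X, f ⁻¹ᵁ V)) :
    letI := H23.CoverPush.alg f V
    (trace hA).app V (ofFn f a) = Algebra.trace Γ(Y, V) Γ(X, f ⁻¹ᵁ V) a :=
  H23.FinTrace.isTr_of_free hV (isFinLocFree_dir hA) hfree hfin a

variable (hA : FlatMod.IsFinLocFree (push f))

/-- The trace pairing over an open. -/
def pair (V : Y.Opens) (a b : Γ(push f, V)) : Γ(Coh.structureModule Y, V) :=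
  (trace hA).app V (ofFn f (toFn f a * toFn f b))

theorem pair_comm (V : Y.Opens) (a b : Γ(push f, V)) : pair hA V a b = pair hA V b a := by
  unfold pair
  rw [mul_comm]

theorem pair_add (V : Y.Opens) (a b b' : Γ(push f, V)) :
    pair hA V a (b + b') = pair hA V a b + pair hA V a b' := by
  unfold pair
  rw [← map_add]
  exact congrArg (fun t => (trace hA).app V (ofFn f t)) (mul_add (toFn f a) (toFn f b) (toFn f b'))

theorem pair_smul (V : Y.Opens) (r : Γ(Y, V)) (a b : Γ(push f, V)) :
    pair hA V a (r • b) = r • pair hA V a b := by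
  unfold pair
  rw [← Scheme.Modules.Hom.app_smul, smul_eq, smul_eq]
  exact congrArg (fun t => (trace hA).app V (ofFn f t)) (mul_left_comm _ _ _)

theorem res_pair {V W : Y.Opens} (h : W ≤ V) (a b : Γ(push f, V)) :
    (Coh.structureModule Y).presheaf.map (homOfLE h).op (pair hA V a b) =
      pair hA W ((push f).presheaf.map (homOfLE h).op a) ((push f).presheaf.map (homOfLE h).op b) := by
  unfold pair
  refine ((ConcreteCategory.congr_hom ((trace hA).mapPresheaf.naturality (homOfLE h).op) _).symm.trans ?_)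
  refine congrArg ((trace hA).app W) ?_
  rw [res_eq f h a, res_eq f h b]
  exact map_mul (X.presheaf.map (homOfLE (f.preimage_mono h)).op).hom (toFn f a) (toFn f b)

theorem germ_res_O {V W : Y.Opens} (h : W ≤ V) {y : Y} (hy : y ∈ W) (t : Γ(Coh.structureModule Y, V)) :
    (Coh.structureModule Y).presheaf.germ W y hy
        ((Coh.structureModule Y).presheaf.map (homOfLE h).op t) =
      (Coh.structureModule Y).presheaf.germ V y (h hy) t :=
  TopCat.Presheaf.germ_res_apply _ _ _ _ _

theorem germ_res_P {V W : Y.Opens} (h : W ≤ V) {y : Y} (hy : y ∈ W) (t : Γ(push f, V)) :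
    (push f).presheaf.germ W y hy ((push f).presheaf.map (homOfLE h).op t) =
      (push f).presheaf.germ V y (h hy) t :=
  TopCat.Presheaf.germ_res_apply _ _ _ _ _

/-- Two germs have representatives on a common open. -/
theorem exists_reps (y : Y) (v w : (push f).presheaf.stalk y) :
    ∃ (U : Y.Opens) (hy : y ∈ U) (a b : Γ(push f, U)),
      (push f).presheaf.germ U y hy a = v ∧ (push f).presheaf.germ U y hy b = w := by
  obtain ⟨U, hU, a, rfl⟩ := TopCat.Presheaf.exists_germ_eq (push f).presheaf v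
  obtain ⟨V, hV, b, rfl⟩ := TopCat.Presheaf.exists_germ_eq (push f).presheaf w
  exact ⟨U ⊓ V, ⟨hU, hV⟩, (push f).presheaf.map (homOfLE inf_le_left).op a,
    (push f).presheaf.map (homOfLE inf_le_right).op b, germ_res_P _ _ _, germ_res_P _ _ _⟩

/-- The pairing of germs. -/
def pst (y : Y) (v w : (push f).presheaf.stalk y) : (Coh.structureModule Y).presheaf.stalk y :=
  (Coh.structureModule Y).presheaf.germ _ y (exists_reps y v w).choose_spec.choose
    (pair hA _ (exists_reps y v w).choose_spec.choose_spec.choose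
      (exists_reps y v w).choose_spec.choose_spec.choose_spec.choose)

theorem pst_germ (y : Y) {U : Y.Opens} (hy : y ∈ U) (a b : Γ(push f, U)) :
    pst hA y ((push f).presheaf.germ U y hy a) ((push f).presheaf.germ U y hy b) =
      (Coh.structureModule Y).presheaf.germ U y hy (pair hA U a b) := by
  have key : ∀ (U' : Y.Opens) (hy' : y ∈ U') (a' b' : Γ(push f, U')),
      (push f).presheaf.germ U' y hy' a' = (push f).presheaf.germ U y hy a →
      (push f).presheaf.germ U' y hy' b' = (push f).presheaf.germ U y hy b →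
      (Coh.structureModule Y).presheaf.germ U' y hy' (pair hA U' a' b') =
        (Coh.structureModule Y).presheaf.germ U y hy (pair hA U a b) := by
    intro U' hy' a' b' ha hb
    obtain ⟨W₁, hW₁, i₁, j₁, e₁⟩ := TopCat.Presheaf.germ_eq _ y hy' hy a' a ha
    obtain ⟨W₂, hW₂, i₂, j₂, e₂⟩ := TopCat.Presheaf.germ_eq _ y hy' hy b' b hb
    have l' : W₁ ⊓ W₂ ≤ U' := inf_le_left.trans i₁.le
    have l : W₁ ⊓ W₂ ≤ U := inf_le_left.trans j₁.le
    rw [← germ_res_O l' (y := y) ⟨hW₁, hW₂⟩, ← germ_res_O l (y := y) ⟨hW₁, hW₂⟩, res_pair, res_pair]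
    have c₁ := congrArg ((push f).presheaf.map (homOfLE (inf_le_left : W₁ ⊓ W₂ ≤ W₁)).op) e₁
    have c₂ := congrArg ((push f).presheaf.map (homOfLE (inf_le_right : W₁ ⊓ W₂ ≤ W₂)).op) e₂
    rw [← ConcreteCategory.comp_apply, ← ConcreteCategory.comp_apply, ← Functor.map_comp,
      ← Functor.map_comp] at c₁ c₂
    exact congrArg₂ (fun s t => (Coh.structureModule Y).presheaf.germ (W₁ ⊓ W₂) y
      (show y ∈ W₁ ⊓ W₂ from ⟨hW₁, hW₂⟩) (pair hA (W₁ ⊓ W₂) s t)) c₁ c₂
  obtain ⟨ha, hb⟩ := (exists_reps y ((push f).presheaf.germ U y hy a)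
    ((push f).presheaf.germ U y hy b)).choose_spec.choose_spec.choose_spec.choose_spec
  exact key _ _ _ _ ha hb

theorem pst_comm (y : Y) (v w : (push f).presheaf.stalk y) : pst hA y v w = pst hA y w v := by
  obtain ⟨U, hy, a, b, rfl, rfl⟩ := exists_reps y v w
  rw [pst_germ, pst_germ, pair_comm]

theorem pst_add (y : Y) (v w w' : (push f).presheaf.stalk y) :
    pst hA y v (w + w') = pst hA y v w + pst hA y v w' := by
  obtain ⟨U, hU, b, b', rfl, rfl⟩ := exists_reps y w w'
  obtain ⟨V, hV, a, rfl⟩ := TopCat.Presheaf.exists_germ_eq (push f).presheaf v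
  rw [← germ_res_P (inf_le_left : U ⊓ V ≤ U) (y := y) ⟨hU, hV⟩ b,
    ← germ_res_P (inf_le_left : U ⊓ V ≤ U) (y := y) ⟨hU, hV⟩ b',
    ← germ_res_P (inf_le_right : U ⊓ V ≤ V) (y := y) ⟨hU, hV⟩ a, ← map_add, pst_germ, pst_germ, pst_germ,
    pair_add, map_add]

theorem pst_smul (y : Y) (r : Y.presheaf.stalk y) (v w : (push f).presheaf.stalk y) :
    pst hA y v (r • w) = r • pst hA y v w := by
  obtain ⟨U, hU, a, b, rfl, rfl⟩ := exists_reps y v w
  obtain ⟨V, hV, s, rfl⟩ := TopCat.Presheaf.exists_germ_eq Y.presheaf r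
  rw [← germ_res_P (inf_le_left : U ⊓ V ≤ U) (y := y) ⟨hU, hV⟩ b,
    ← germ_res_P (inf_le_left : U ⊓ V ≤ U) (y := y) ⟨hU, hV⟩ a,
    ← TopCat.Presheaf.germ_res_apply Y.presheaf (homOfLE (inf_le_right : U ⊓ V ≤ V)) y ⟨hU, hV⟩ s,
    ← Mero.germ_smul, pst_germ, pst_germ, pair_smul, Mero.germ_smul]

/-- Pairing with a germ. -/
def pairLin (y : Y) (v : (push f).presheaf.stalk y) :
    StalkHom (push f) (Coh.structureModule Y) y where
  toFun := pst hA y v
  map_add' := pst_add hA y v
  map_smul' r w := pst_smul hA y r v w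

theorem pairLin_add (y : Y) (v v' : (push f).presheaf.stalk y) :
    pairLin hA y (v + v') = pairLin hA y v + pairLin hA y v' := by
  ext w
  show pst hA y (v + v') w = pst hA y v w + pst hA y v' w
  rw [pst_comm, pst_add, pst_comm hA y w v, pst_comm hA y w v']

theorem pairLin_smul (y : Y) (r : Y.presheaf.stalk y) (v : (push f).presheaf.stalk y) :
    pairLin hA y (r • v) = r • pairLin hA y v := by
  ext w
  show pst hA y (r • v) w = r • pst hA y v w
  rw [pst_comm, pst_smul, pst_comm hA y w v]

/-- The map to the dual given by the trace pairing. -/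
def toDual : push f ⟶ dual (push f) :=
  ⟨PresheafOfModules.homMk
    { app := fun U => AddCommGrpCat.ofHom
        { toFun := fun a => ⟨fun y => pairLin hA y.1 ((push f).presheaf.germ U.unop y.1 y.2 a),
            fun V i m y => by
              refine ⟨V, y.2, 𝟙 V, pair hA V ((push f).presheaf.map (homOfLE i.le).op a) m, fun z => ?_⟩
              show pst hA z.1 _ _ = _
              rw [← germ_res_P i.le z.2 a, pst_germ]⟩
          map_zero' := Subtype.ext <| funext fun y => by
            show pairLin hA y.1 _ = 0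
            rw [map_zero, ← zero_smul (Y.presheaf.stalk y.1) (0 : (push f).presheaf.stalk y.1),
              pairLin_smul, zero_smul]
          map_add' := fun a a' => Subtype.ext <| funext fun y => by
            show pairLin hA y.1 _ = _
            rw [map_add, pairLin_add]
            rfl }
      naturality := fun {U V} i => by
        ext a
        refine Subtype.ext (funext fun y => ?_)
        exact congrArg (pairLin hA y.1) (TopCat.Presheaf.germ_res_apply' (push f).presheaf i y.1 y.2 a) }
    (fun U r a => Subtype.ext <| funext fun y =>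
      (congrArg (pairLin hA y.1) (Mero.germ_smul (push f) U.unop y.1 y.2 r a)).trans (pairLin_smul hA y.1 _ _))⟩

theorem evalStalk_toDual (y : Y) (v : (push f).presheaf.stalk y) :
    evalStalk (push f) (Coh.structureModule Y) y (stalkMapₗ (toDual hA) y v) = pairLin hA y v := by
  obtain ⟨U, hy, a, rfl⟩ := TopCat.Presheaf.exists_germ_eq (push f).presheaf v
  rw [stalkMapₗ_germ, evalStalk_germ]
  rfl

variable [IsIntegral X] [IsIntegral Y]

omit [IsIntegral X] in
theorem section_eq_zero_of_germ {V : Y.Opens} {y : Y} (hy : y ∈ V) (t : Γ(Coh.structureModule Y, V))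
    (h : (Coh.structureModule Y).presheaf.germ V y hy t = 0) : t = 0 := by
  obtain ⟨W, hW, i, j, e⟩ := TopCat.Presheaf.germ_eq _ y hy hy t 0 (h.trans (map_zero _).symm)
  haveI : Nonempty V := ⟨⟨y, hy⟩⟩
  haveI : Nonempty W := ⟨⟨y, hW⟩⟩
  refine map_injective_of_isIntegral Y i (e.trans ?_)
  exact (map_zero _).trans (map_zero (Y.presheaf.map i.op).hom).symm

/-- The trace pairing of a separable finite dominant map is injective on affine free opens. -/
theorem eq_zero_of_pair (e : f (genericPoint X) = genericPoint Y)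
    (hsep : letI := ((Y.presheaf.stalkSpecializes (specializes_of_eq e) ≫ f.stalkMap (genericPoint X)).hom).toAlgebra
      Algebra.IsSeparable Y.functionField X.functionField)
    (hfd : letI := ((Y.presheaf.stalkSpecializes (specializes_of_eq e) ≫ f.stalkMap (genericPoint X)).hom).toAlgebra
      FiniteDimensional Y.functionField X.functionField)
    {V : Y.Opens} (hV : IsAffineOpen V) (hne : (V : Set Y).Nonempty)
    (hfree : letI := H23.CoverPush.alg f V; Module.Free Γ(Y, V) Γ(X, f ⁻¹ᵁ V))
    (hfin : letI := H23.CoverPush.alg f V; Module.Finite Γ(Y, V) Γ(X, f ⁻¹ᵁ V))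
    (a : Γ(push f, V)) (h : ∀ b, pair hA V a b = 0) : a = 0 := by
  have hη : genericPoint Y ∈ V :=
    ((genericPoint_spec Y).specializes (Set.mem_univ hne.some)).mem_open V.2 hne.some_mem
  have hmem : f (genericPoint X) ∈ V := by rw [e]; exact hη
  haveI : Nonempty V := ⟨⟨_, hη⟩⟩
  haveI : Nonempty (f ⁻¹ᵁ V : X.Opens) := ⟨⟨genericPoint X, hmem⟩⟩
  letI := H23.CoverPush.alg f V
  haveI := hfree
  haveI := hfin
  haveI : IsDomain Γ(Y, V) := inferInstance
  haveI : IsDomain Γ(X, f ⁻¹ᵁ V) := inferInstance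
  let K := Y.functionField
  let L := X.functionField
  letI : Algebra K L :=
    ((Y.presheaf.stalkSpecializes (specializes_of_eq e) ≫ f.stalkMap (genericPoint X)).hom).toAlgebra
  haveI := hsep
  haveI := hfd
  haveI : IsFractionRing Γ(Y, V) K := functionField_isFractionRing_of_isAffineOpen Y V hV
  haveI : IsFractionRing Γ(X, f ⁻¹ᵁ V) L :=
    functionField_isFractionRing_of_isAffineOpen X (f ⁻¹ᵁ V) (hV.preimage f)
  letI : Algebra Γ(Y, V) L :=
    ((algebraMap Γ(X, f ⁻¹ᵁ V) L).comp (f.app V).hom).toAlgebra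
  haveI : IsScalarTower Γ(Y, V) Γ(X, f ⁻¹ᵁ V) L := .of_algebraMap_eq' rfl
  haveI : IsScalarTower Γ(Y, V) K L := .of_algebraMap_eq fun z => by
    show X.presheaf.germ (f ⁻¹ᵁ V) (genericPoint X) hmem (f.app V z) =
      f.stalkMap (genericPoint X)
        (Y.presheaf.stalkSpecializes (specializes_of_eq e) (Y.presheaf.germ V (genericPoint Y) hη z))
    rw [TopCat.Presheaf.germ_stalkSpecializes_apply, Scheme.Hom.germ_stalkMap_apply]
  haveI : FaithfulSMul Γ(Y, V) Γ(X, f ⁻¹ᵁ V) := by
    refine (faithfulSMul_iff_algebraMap_injective _ _).2 ?_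
    refine Function.Injective.of_comp (f := algebraMap Γ(X, f ⁻¹ᵁ V) L) ?_
    rw [← RingHom.coe_comp, ← IsScalarTower.algebraMap_eq, IsScalarTower.algebraMap_eq Γ(Y, V) K L]
    exact (algebraMap K L).injective.comp (IsFractionRing.injective Γ(Y, V) K)
  refine eq_zero_of_trace_mul (R := Γ(Y, V)) (S := Γ(X, f ⁻¹ᵁ V)) (K := K) (L := L) (toFn f a) fun b => ?_
  rw [← trace_app_of_free hA hV hfree hfin]
  exact h (ofFn f b)

/-- The trace pairing is injective for a separable finite dominant map. -/
theorem mono_toDual (e : f (genericPoint X) = genericPoint Y)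
    (hsep : letI := ((Y.presheaf.stalkSpecializes (specializes_of_eq e) ≫ f.stalkMap (genericPoint X)).hom).toAlgebra
      Algebra.IsSeparable Y.functionField X.functionField)
    (hfd : letI := ((Y.presheaf.stalkSpecializes (specializes_of_eq e) ≫ f.stalkMap (genericPoint X)).hom).toAlgebra
      FiniteDimensional Y.functionField X.functionField) :
    Mono (toDual hA) := by
  refine Preadditive.mono_of_cancel_zero _ fun {Z} g hg => CurveHom.eq_zero_of_stalk g fun y w => ?_
  have key : ∀ v : (push f).presheaf.stalk y, stalkMapₗ (toDual hA) y v = 0 → v = 0 := by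
    intro v hv
    have hp : pairLin hA y v = 0 := by
      rw [← evalStalk_toDual hA y v, hv, map_zero]
    obtain ⟨U₀, hyU₀, a₀, rfl⟩ := TopCat.Presheaf.exists_germ_eq (push f).presheaf v
    obtain ⟨U, n, hyU, ⟨eU⟩⟩ := hA y
    obtain ⟨_, ⟨V, hV, rfl⟩, hyV, hle⟩ :=
      Y.isBasis_affineOpens.exists_subset_of_mem_open (⟨hyU, hyU₀⟩ : y ∈ U ⊓ U₀) (U ⊓ U₀).2
    obtain ⟨l⟩ := QCoh.free_sections hV (le_trans hle inf_le_left) eU
    letI := H23.CoverPush.alg f V
    let e' : Γ(X, f ⁻¹ᵁ V) ≃ₗ[Γ(Y, V)] _ := { l with map_smul' := fun r x => l.map_smul r x }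
    have hfree : Module.Free Γ(Y, V) Γ(X, f ⁻¹ᵁ V) := Module.Free.of_equiv e'.symm
    have hfin : Module.Finite Γ(Y, V) Γ(X, f ⁻¹ᵁ V) := Module.Finite.equiv e'.symm
    rw [← germ_res_P (le_trans hle inf_le_right : V ≤ U₀) hyV a₀] at hp ⊢
    refine (congrArg ((push f).presheaf.germ V y hyV) ?_).trans (map_zero _)
    refine eq_zero_of_pair hA e hsep hfd hV ⟨y, hyV⟩ hfree hfin _ fun b => ?_
    haveI : Nonempty V := ⟨⟨y, hyV⟩⟩
    have h1 := LinearMap.congr_fun hp ((push f).presheaf.germ V y hyV b)
    change pst hA y _ _ = 0 at h1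
    rw [pst_germ] at h1
    exact section_eq_zero_of_germ hyV _ h1
  refine key _ ?_
  rw [← CurveHom.stalkMapₗ_comp, hg, CurveHom.stalkMapₗ_eq, Functor.map_zero]
  rfl

end Groth.Agent.CurveTraceDeg
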